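import Mathlib
import Groth.Agent.Lib.Pure.ML

/-!
Finite algebras over a product of algebraically closed fields: quasi-finite finitely presented
algebras are finite, and modulo nilpotents they are finite étale.
-/

set_option autoImplicit false

universe u

open TensorProduct

namespace Groth.Agent.Lib.QFSplit44.Product

variable {ι : Type u} {K : ι → Type u} [∀ x, Field (K x)]

/-- In a product of fields every element of a prime is a multiple of an idempotent in the prime. -/
theorem exists_not_mem_mul_eq_zero (P : Ideal (∀ x, K x)) [P.IsPrime] {a : ∀ x, K x} (ha : a ∈ P) :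
    ∃ s, s ∉ P ∧ s * a = 0 := by
  classical
  refine ⟨fun x => if a x = 0 then 1 else 0, fun hs => ?_, ?_⟩
  · refine Ideal.IsPrime.ne_top inferInstance ((Ideal.eq_top_iff_one P).2 ?_)
    have he : a * (fun x => (a x)⁻¹) ∈ P := P.mul_mem_right _ ha
    convert P.add_mem hs he using 1
    funext x
    by_cases h : a x = 0 <;> simp [h]
  · funext x
    by_cases h : a x = 0 <;> simp [h]

instance isMaximal (P : Ideal (∀ x, K x)) [P.IsPrime] : P.IsMaximal := by
  refine Ideal.isMaximal_iff.2 ⟨fun h => Ideal.IsPrime.ne_top inferInstance ((Ideal.eq_top_iff_one P).2 h),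
    fun J a hPJ haP haJ => ?_⟩
  classical
  let s : ∀ x, K x := fun x => if a x = 0 then 1 else 0
  have hs : s * a = 0 := by
    funext x
    by_cases h : a x = 0 <;> simp [s, h]
  have hsP : s ∈ P := ((Ideal.IsPrime.mem_or_mem inferInstance (hs ▸ P.zero_mem))).resolve_right haP
  have h1 : s + a * (fun x => (a x)⁻¹) = 1 := by
    funext x
    by_cases h : a x = 0 <;> simp [s, h]
  exact h1 ▸ J.add_mem (hPJ hsP) (J.mul_mem_right _ haJ)

variable (T : Type u) [CommRing T] [Algebra (∀ x, K x) T]

theorem finite_of_quasiFinite [Algebra.FiniteType (∀ x, K x) T] [Algebra.QuasiFinite (∀ x, K x) T] :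
    Module.Finite (∀ x, K x) T := by
  let A := ∀ x, K x
  suffices h : Algebra.IsIntegral A T from Algebra.IsIntegral.finite
  refine ⟨fun y => ?_⟩
  let J : Ideal A :=
    { carrier := {s | ∃ p : Polynomial A, p.Monic ∧ s • Polynomial.aeval y p = 0}
      zero_mem' := ⟨1, Polynomial.monic_one, zero_smul _ _⟩
      add_mem' := by
        rintro s t ⟨p, hp, hs⟩ ⟨q, hq, ht⟩
        refine ⟨p * q, hp.mul hq, ?_⟩
        rw [add_smul, map_mul, ← smul_mul_assoc, ← mul_smul_comm, hs, ht, zero_mul, mul_zero,
          add_zero]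
      smul_mem' := by
        rintro c s ⟨p, hp, hs⟩
        exact ⟨p, hp, by rw [smul_eq_mul, mul_smul, hs, smul_zero]⟩ }
  suffices hJ : J = ⊤ by
    obtain ⟨p, hp, h1⟩ := (Ideal.eq_top_iff_one J).1 hJ
    exact ⟨p, hp, by rwa [one_smul] at h1⟩
  by_contra hJ
  obtain ⟨P, hP, hJP⟩ := J.exists_le_maximal hJ
  let : Field (A ⧸ P) := Ideal.Quotient.field P
  have : Module.Finite (A ⧸ P) ((A ⧸ P) ⊗[A] T) := Module.Finite.of_quasiFinite
  obtain ⟨q, hq, hqy⟩ := IsIntegral.of_finite (A ⧸ P) ((1 : A ⧸ P) ⊗ₜ[A] y)
  obtain ⟨p, hpq, -, hp⟩ := Polynomial.lifts_and_natDegree_eq_and_monic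
    (Polynomial.mem_lifts_of_surjective (Ideal.Quotient.mk_surjective (I := P)) q) hq
  -- the lifted equation holds modulo `P`
  have hker : (1 : A ⧸ P) ⊗ₜ[A] (Polynomial.aeval y p) = 0 := by
    rw [← hqy, ← hpq, Polynomial.eval₂_map]
    change (Algebra.TensorProduct.includeRight : T →ₐ[A] (A ⧸ P) ⊗[A] T) _ = _
    rw [← Polynomial.aeval_algHom_apply, Polynomial.aeval_def]
    rfl
  have hmem : Polynomial.aeval y p ∈ P • (⊤ : Submodule A T) := by
    rw [← Submodule.Quotient.mk_eq_zero]
    have := congrArg (TensorProduct.quotTensorEquivQuotSMul T P) hker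
    rw [map_zero] at this
    rw [← this]
    exact (TensorProduct.quotTensorEquivQuotSMul_mk_tmul P (1 : A) _).trans (by rw [one_smul]) |>.symm
  have hgen : ∀ z ∈ P • (⊤ : Submodule A T), ∃ s, s ∉ P ∧ s • z = 0 := by
    intro z hz
    refine Submodule.smul_induction_on hz (fun a ha t _ => ?_) (fun z w hz hw => ?_)
    · obtain ⟨s, hs, hsa⟩ := exists_not_mem_mul_eq_zero P ha
      exact ⟨s, hs, by rw [smul_smul, hsa, zero_smul]⟩
    · obtain ⟨s, hs, hsz⟩ := hz
      obtain ⟨t, ht, htw⟩ := hw
      refine ⟨s * t, fun h => (Ideal.IsPrime.mem_or_mem inferInstance h).elim hs ht, ?_⟩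
      rw [smul_add, mul_comm s t, mul_smul, hsz, smul_zero, zero_add, mul_comm t s, mul_smul, htw,
        smul_zero]
  obtain ⟨s, hs, hsp⟩ := hgen _ hmem
  exact hs (hJP ⟨p, hp, hsp⟩)

/-- Points of a finite algebra over an algebraically closed field split it modulo nilpotents. -/
theorem exists_split (F R : Type u) [Field F] [IsAlgClosed F] [CommRing R] [Algebra F R]
    [Module.Finite F R] :
    ∃ (n : ℕ) (χ : R →ₐ[F] (Fin n → F)), Function.Surjective χ ∧ n ≤ Module.finrank F R ∧
      ∀ z, χ z = 0 → z ^ Module.finrank F R = 0 := by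
  have : IsArtinianRing R := IsArtinianRing.of_finite F R
  let e := Finite.equivFin (MaximalSpectrum R)
  let I : Fin (Nat.card (MaximalSpectrum R)) → Ideal R := fun j => (e.symm j).asIdeal
  have hb : ∀ m : MaximalSpectrum R, Function.Bijective (algebraMap F (R ⧸ m.asIdeal)) := fun m => by
    have := m.isMaximal
    exact IsAlgClosed.algebraMap_bijective_of_isIntegral
  let eq : ∀ j, F ≃ₐ[F] R ⧸ I j := fun j => AlgEquiv.ofBijective (Algebra.ofId _ _) (hb _)
  let χ : R →ₐ[F] (Fin (Nat.card (MaximalSpectrum R)) → F) :=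
    AlgHom.pi fun j => (eq j).symm.toAlgHom.comp (Ideal.Quotient.mkₐ F (I j))
  have hs : Function.Surjective χ := fun v => by
    obtain ⟨r, hr⟩ := Ideal.pi_quotient_surjective (I := I) (fun i j hij =>
      Ideal.isCoprime_of_isMaximal fun h => hij (e.symm.injective (MaximalSpectrum.ext h)))
      (fun j => eq j (v j))
    refine ⟨r, funext fun j => ?_⟩
    change (eq j).symm (Ideal.Quotient.mk (I j) r) = v j
    rw [hr j, AlgEquiv.symm_apply_apply]
  refine ⟨_, χ, hs, ?_, fun z hz => ?_⟩
  · have := LinearMap.finrank_le_finrank_of_surjective (f := χ.toLinearMap) hs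
    simpa using this
  · have hnil : IsNilpotent z := by
      rw [← mem_nilradical, ← Ring.jacobson_eq_nilradical_of_krullDimLE_zero R, Ring.jacobson_eq_sInf_isMaximal,
        Submodule.mem_sInf]
      intro M hM
      have h := congrFun hz (e ⟨M, hM⟩)
      rw [Pi.zero_apply, AlgHom.pi_apply] at h
      change (eq _).symm (Ideal.Quotient.mk _ z) = 0 at h
      rw [map_eq_zero_iff _ (AlgEquiv.injective _), Ideal.Quotient.eq_zero_iff_mem] at h
      simpa [I] using h
    have hl : IsNilpotent (Algebra.lmul F R z) := hnil.map _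
    have hc := LinearMap.aeval_self_charpoly (Algebra.lmul F R z)
    rw [hl.charpoly_eq_X_pow_finrank, map_pow, Polynomial.aeval_X] at hc
    have := LinearMap.congr_fun hc 1
    rw [← map_pow] at this
    simpa using this

section Z

variable (n : ι → ℕ) (D : ℕ) (hn : ∀ x, n x ≤ D)

/-- Extension by zero. -/
def pad : (∀ x, Fin (n x) → K x) →ₗ[∀ x, K x] (Fin D → ∀ x, K x) where
  toFun z j x := if h : (j : ℕ) < n x then z x ⟨j, h⟩ else 0
  map_add' z w := by
    funext j x
    by_cases h : (j : ℕ) < n x <;> simp [h]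
  map_smul' a z := by
    funext j x
    by_cases h : (j : ℕ) < n x <;> simp [h]

/-- Restriction to the first coordinates. -/
def cut : (Fin D → ∀ x, K x) →ₗ[∀ x, K x] (∀ x, Fin (n x) → K x) where
  toFun f x m := f (Fin.castLE (hn x) m) x
  map_add' f g := rfl
  map_smul' a f := rfl

include hn in
theorem finite_etale : Module.Finite (∀ x, K x) (∀ x, Fin (n x) → K x) ∧
    Algebra.Etale (∀ x, K x) (∀ x, Fin (n x) → K x) := by
  classical
  let A := ∀ x, K x
  let Z := ∀ x, Fin (n x) → K x
  have hcp : (cut n D hn).comp (pad (K := K) n D) = LinearMap.id := by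
    apply LinearMap.ext; intro z; funext x m
    simp [cut, pad]
  have : Module.Finite A Z := Module.Finite.of_surjective (cut n D hn)
    (fun z => ⟨pad n D z, LinearMap.congr_fun hcp z⟩)
  have : Module.Projective A Z := Module.Projective.of_split (pad n D) (cut n D hn) hcp
  have : Module.FinitePresentation A Z := Module.finitePresentation_of_projective A Z
  have : Algebra.FinitePresentation A Z := inferInstance
  have : Algebra.FormallyUnramified A Z := by
    constructor
    rw [subsingleton_iff]
    suffices hD : ∀ z : Z, KaehlerDifferential.D A Z z = 0 by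
      have h0 : ∀ w : Ω[Z⁄A], w = 0 := fun w => by
        have hw : w ∈ Submodule.span Z (Set.range (KaehlerDifferential.D A Z)) := by
          rw [KaehlerDifferential.span_range_derivation]; trivial
        rw [show Set.range (KaehlerDifferential.D A Z) = {0} from
          Set.eq_singleton_iff_unique_mem.2 ⟨⟨0, map_zero _⟩, by rintro _ ⟨z, rfl⟩; exact hD z⟩,
          Submodule.span_singleton_eq_bot.2 rfl] at hw
        exact (Submodule.mem_bot Z).1 hw
      exact fun a b => (h0 a).trans (h0 b).symm
    intro z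
    have hz : z = ∑ j, pad n D z j • cut n D hn (Pi.single j 1) := by
      conv_lhs => rw [← LinearMap.id_apply (R := A) z, ← hcp, LinearMap.comp_apply,
        pi_eq_sum_univ' (pad n D z)]
      simp
    rw [hz, map_sum]
    refine Finset.sum_eq_zero fun j _ => ?_
    rw [Derivation.map_smul]
    have hidem : cut (K := K) n D hn (Pi.single j 1) * cut n D hn (Pi.single j 1) =
        cut n D hn (Pi.single j 1) := by
      funext x m
      change (Pi.single j 1 : Fin D → A) _ x * (Pi.single j 1 : Fin D → A) _ x = (Pi.single j 1 : Fin D → A) _ x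
      rw [Pi.single_apply]
      split_ifs
      · exact one_mul _
      · exact zero_mul _
    suffices KaehlerDifferential.D A Z (cut n D hn (Pi.single j 1)) = 0 by rw [this, smul_zero]
    set e := cut (K := K) n D hn (Pi.single j 1) with he
    have h := Derivation.leibniz (KaehlerDifferential.D A Z) e e
    rw [hidem] at h
    have h2 : (2 * e - 1 : Z) • KaehlerDifferential.D A Z e = 0 := by
      rw [sub_smul, mul_smul, one_smul, two_smul, sub_eq_zero]
      exact h.symm
    have h3 : (2 * e - 1 : Z) * (2 * e - 1) = 1 := by linear_combination 4 * hidem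
    rw [← one_smul Z (KaehlerDifferential.D A Z e), ← h3, mul_smul, h2, smul_zero]
  have : Module.Flat A Z := inferInstance
  exact ⟨inferInstance, Algebra.Etale.of_formallyUnramified_of_flat⟩

end Z

/-- A quasi-finite finitely presented algebra over a product of algebraically closed fields is,
modulo nilpotents, finite étale. -/
theorem exists_etale_quotient [∀ x, IsAlgClosed (K x)] [Algebra.FinitePresentation (∀ x, K x) T]
    [Algebra.QuasiFinite (∀ x, K x) T] :
    ∃ (Z : Type u) (_ : CommRing Z) (_ : Algebra (∀ x, K x) Z) (φ : T →ₐ[∀ x, K x] Z),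
      Function.Surjective φ ∧ (∀ t, φ t = 0 → IsNilpotent t) ∧
      Module.Finite (∀ x, K x) Z ∧ Algebra.Etale (∀ x, K x) Z := by
  let A := ∀ x, K x
  have : Module.Finite A T := finite_of_quasiFinite T
  have : Module.FinitePresentation A T := Module.FinitePresentation.of_finite_of_finitePresentation A T
  let _ : ∀ x, Algebra A (K x) := fun x => (Pi.evalRingHom K x).toAlgebra
  obtain ⟨D, s, hs⟩ := Module.Finite.exists_fin (R := A) (M := T)
  -- the product decomposition
  let ψ : T →ₗ[A] ∀ x, K x ⊗[A] T := LinearMap.pi fun x => TensorProduct.mk A (K x) T 1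
  have hψ : Function.Bijective ψ := by
    have h := Groth.Agent.Lib.Pure.ML.piRightHom_bijective_of_fp (R := A) (M := T) (fun x => K x)
    let c : (∀ x, T ⊗[A] K x) ≃ₗ[A] ∀ x, K x ⊗[A] T :=
      LinearEquiv.piCongrRight fun x => TensorProduct.comm A T (K x)
    let idA : A →ₗ[A] ∀ x, K x := { toFun := id, map_add' := fun _ _ => rfl, map_smul' := fun _ _ => rfl }
    have e : ⇑ψ = ⇑c ∘ ⇑(TensorProduct.piRightHom A A T (fun x => K x)) ∘
        ⇑((TensorProduct.rid A T).symm ≪≫ₗ LinearEquiv.lTensor T
          (LinearEquiv.ofBijective idA Function.bijective_id)) := by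
      funext t x; rfl
    rw [e]
    exact c.bijective.comp (h.comp (LinearEquiv.bijective _))
  have hfin : ∀ x, Module.Finite (K x) (K x ⊗[A] T) := fun x => inferInstance
  have hrank : ∀ x, Module.finrank (K x) (K x ⊗[A] T) ≤ D := fun x => by
    have hsp : Submodule.span (K x) (Set.range fun i => (1 : K x) ⊗ₜ[A] s i) = ⊤ := by
      have := Submodule.baseChange_span (R := A) (K x) (Set.range s)
      rw [hs, Submodule.baseChange_top, ← Set.range_comp] at this
      exact this.symm
    have := finrank_range_le_card (R := K x) (fun i => (1 : K x) ⊗ₜ[A] s i)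
    rw [Set.finrank, hsp, finrank_top, Fintype.card_fin] at this
    exact this
  choose n χ hχs hχn hχ0 using fun x => exists_split (K x) (K x ⊗[A] T)
  let φ : T →ₐ[A] (∀ x, Fin (n x) → K x) :=
    { toFun := fun t x => χ x ((1 : K x) ⊗ₜ[A] t)
      map_one' := by funext x; exact map_one (χ x)
      map_mul' := fun a b => by
        funext x
        rw [Pi.mul_apply, ← map_mul, Algebra.TensorProduct.tmul_mul_tmul, one_mul]
      map_zero' := by funext x; rw [TensorProduct.tmul_zero, map_zero]; rfl
      map_add' := fun a b => by funext x; rw [Pi.add_apply, ← map_add, TensorProduct.tmul_add]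
      commutes' := fun a => by
        funext x
        rw [Algebra.algebraMap_eq_smul_one, TensorProduct.tmul_smul]
        change χ x ((a x * 1) ⊗ₜ[A] (1 : T)) = _
        rw [mul_one, show (a x) ⊗ₜ[A] (1 : T) = algebraMap (K x) (K x ⊗[A] T) (a x) from rfl, AlgHom.commutes]
        rfl }
  obtain ⟨hf, he⟩ := finite_etale (K := K) n D (fun x => (hχn x).trans (hrank x))
  refine ⟨_, inferInstance, inferInstance, φ, fun z => ?_, fun t ht => ⟨D, hψ.1 ?_⟩, hf, he⟩
  · choose w hw using fun x => hχs x (z x)
    obtain ⟨t, ht⟩ := hψ.2 w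
    exact ⟨t, funext fun x => (congrArg (χ x) (congrFun ht x)).trans (hw x)⟩
  · rw [map_zero]
    funext x
    change (1 : K x) ⊗ₜ[A] (t ^ D) = 0
    rw [show (1 : K x) ⊗ₜ[A] (t ^ D) = ((1 : K x) ⊗ₜ[A] t) ^ D by
      rw [Algebra.TensorProduct.tmul_pow, one_pow]]
    exact pow_eq_zero_of_le (hrank x) (hχ0 x _ (congrFun ht x))

end Groth.Agent.Lib.QFSplit44.Product
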